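import Groth.Agent.UCAmple.Crit
import Groth.Agent.AmpleX.Sect
import Groth.Agent.AmpleX.RelAffine

/-!
# Generating loci on universally closed schemes with an ample module
-/

universe u

open CategoryTheory CategoryTheory.Limits AlgebraicGeometry TopologicalSpace

set_option backward.isDefEq.respectTransparency false
set_option backward.isDefEq.respectTransparency.types false
set_option linter.style.haveILetI false

namespace Groth.Agent.UCAmple

open Groth.Agent

theorem isFrame_genLocus {X : Scheme.{u}} {L : X.Modules} (s : Coh.structureModule X ⟶ L) :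
    InvX.IsFrame (AModX.res L (le_top : CohB1.genLocus L s ≤ ⊤) (InvX.one s)) := by
  refine InvX.isFrame_of_germ fun y hy => ?_
  obtain ⟨V, hyV, hV⟩ := InvX.mem_genLocus hy
  have := hV.germ_bijective hyV
  rw [InvX.germ_res'] at this ⊢
  exact this

theorem isAffineOpen_genLocus {W V : Scheme.{u}} (g : W ⟶ V) [IsAffine V] [UniversallyClosed g]
    {L : W.Modules} (hA : CohB1.IsAmple L) (s : Coh.structureModule W ⟶ L) :
    IsAffineOpen (CohB1.genLocus L s) := by
  obtain ⟨hL, hc, hx⟩ := AmpleX.isAmple_iff.1 hA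
  let Y := CohB1.genLocus L s
  haveI := InvX.isAffineHom_genLocus_ι hL s
  haveI : CompactSpace Y.toScheme := QuasiCompact.compactSpace_of_compactSpace Y.ι
  -- local data
  have key : ∀ x : W, ∃ (U : W.Opens) (a : Γ(W, U)) (b : Γ(W, Y)), x ∈ U ∧ IsAffineOpen U ∧
      U ⊓ Y = W.basicOpen a ∧ U ⊓ Y = W.basicOpen b ∧
      W.presheaf.map (homOfLE (inf_le_left : U ⊓ Y ≤ U)).op a *
        W.presheaf.map (homOfLE (inf_le_right : U ⊓ Y ≤ Y)).op b = 1 := by
    intro x
    obtain ⟨m, hm, t, hxt, ht⟩ := hx x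
    obtain ⟨k, rfl⟩ := Nat.exists_eq_add_of_le' hm
    let σ := InvX.powHom s (k + 1)
    have hY : CohB1.genLocus _ σ = Y := InvX.genLocus_powHom hL s k
    let U := CohB1.genLocus _ t
    have hU := isFrame_genLocus t
    have hσ : InvX.IsFrame (AModX.res _ (le_top : Y ≤ ⊤) (InvX.one σ)) :=
      hY ▸ isFrame_genLocus σ
    obtain ⟨a, ha⟩ := hU.exists_coord le_rfl (AModX.res _ (le_top : U ≤ ⊤) (InvX.one σ))
    obtain ⟨b, hb⟩ := hσ.exists_coord le_rfl (AModX.res _ (le_top : Y ≤ ⊤) (InvX.one t))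
    rw [AModX.res_self] at ha hb
    refine ⟨U, a, b, hxt, ht, ?_, ?_, ?_⟩
    · rw [← InvX.genLocus_inf σ hU ha, hY, inf_comm]
    · rw [← InvX.genLocus_inf t hσ hb]
    · refine hσ.coord_unique inf_le_right ?_
      have h1 := congrArg (AModX.res _ (inf_le_left : U ⊓ Y ≤ U)) ha
      have h2 := congrArg (AModX.res _ (inf_le_right : U ⊓ Y ≤ Y)) hb
      rw [AModX.res_smul, AModX.res_res, AModX.res_res] at h1 h2
      rw [one_smul, AModX.res_res]
      show (AModX.resR _ a * AModX.resR _ b) • _ = _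
      rw [mul_smul, ← h2]
      exact h1.symm
  haveI : Y.toScheme.IsQuasiAffine := by
    refine Scheme.IsQuasiAffine.of_forall_exists_mem_basicOpen _ fun y => ?_
    obtain ⟨U, a, b, hyU, hU, hUa, hUb, -⟩ := key y.1
    refine ⟨Y.topIso.inv b, ?_, ?_⟩
    · apply (Y.ι.isAffineOpen_iff_of_isOpenImmersion).1
      rw [Scheme.Opens.ι_image_basicOpen_topIso_inv, ← hUb, hUa]
      exact hU.basicOpen a
    · have : Y.ι ''ᵁ Y.toScheme.basicOpen (Y.topIso.inv b) = U ⊓ Y := by
        rw [Scheme.Opens.ι_image_basicOpen_topIso_inv, hUb]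
      have hy : y.1 ∈ U ⊓ Y := ⟨hyU, y.2⟩
      rw [← this] at hy
      obtain ⟨y', hy', e⟩ := hy
      exact (Subtype.ext e : y' = y) ▸ hy'
  refine isAffineOpen_of_universallyClosed g Y fun x hxY => ?_
  obtain ⟨U, a, b, hxU, -, hUa, -, hab⟩ := key x
  exact ⟨U, a, b, hxU, fun h => hxY (hUa.ge h).2, hab⟩

theorem isAffineHom_genLocus_comp {X S : Scheme.{u}} (f : X ⟶ S) [UniversallyClosed f]
    (L : X.Modules) (hL : RelAmple.IsRelAmple f L) (s : Coh.structureModule X ⟶ L) :
    IsAffineHom ((CohB1.genLocus L s).ι ≫ f) := by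
  refine ⟨fun V hV => ?_⟩
  haveI : IsAffine V.toScheme := hV
  let W := f ⁻¹ᵁ V
  haveI : UniversallyClosed (f ∣_ V) := IsZariskiLocalAtTarget.restrict ‹_› V
  have hA : CohB1.IsAmple ((Scheme.Modules.pullback W.ι).obj L) :=
    AmpleX.isAmple_of_iso ((Scheme.Modules.restrictFunctorIsoPullback W.ι).app L) (hL.2 ⟨V, hV⟩)
  have hinv : PicF.IsInvertible L := AmpleX.isInvertible_of_isRelAmple hL
  obtain ⟨e⟩ := PicClLib.nonempty_pullback_structureModule W.ι
  have := isAffineOpen_genLocus (f ∣_ V) hA (e.inv ≫ (Scheme.Modules.pullback W.ι).map s)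
  have hg := InvX.genLocus_pullback W.ι hinv s e.symm
  rw [Iso.symm_hom] at hg
  rw [hg] at this
  apply ((CohB1.genLocus L s).ι.isAffineOpen_iff_of_isOpenImmersion).1
  have h2 := this.image_of_isOpenImmersion W.ι
  rw [Scheme.Hom.image_preimage_eq_opensRange_inf, Scheme.Opens.opensRange_ι] at h2
  rwa [Scheme.Hom.comp_preimage, Scheme.Hom.image_preimage_eq_opensRange_inf, Scheme.Opens.opensRange_ι,
    inf_comm]

end Groth.Agent.UCAmple
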