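import Mathlib.AlgebraicGeometry.QuasiAffine
import Mathlib.AlgebraicGeometry.Morphisms.UniversallyClosed
import Mathlib.AlgebraicGeometry.Morphisms.ClosedImmersion
import Mathlib.AlgebraicGeometry.PullbackCarrier

/-!
# Quasi-affine opens of universally closed schemes over an affine base

A quasi-affine open whose boundary is cut out by local functions `a` admitting an inverse `b`
extending to the whole open is affine.
-/

universe u

open CategoryTheory CategoryTheory.Limits AlgebraicGeometry TopologicalSpace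

set_option backward.isDefEq.respectTransparency false
set_option backward.isDefEq.respectTransparency.types false
set_option linter.style.haveILetI false

namespace Groth.Agent.UCAmple

theorem app_congr_of_eq {A B : Scheme.{u}} {f g : A ⟶ B} (h : f = g) (U : B.Opens)
    (E : A.Opens) (hf : E ≤ f ⁻¹ᵁ U) (hg : E ≤ g ⁻¹ᵁ U) : f.appLE U E hf = g.appLE U E hg := by
  subst h; rfl

variable {W V : Scheme.{u}} (g : W ⟶ V) [IsAffine V]

/-- The graph of `Y ⟶ Spec Γ(Y)` inside `W ×_V Spec Γ(Y)`. -/
noncomputable def graph (Y : W.Opens) :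
    Y.toScheme ⟶ pullback g (Spec.map ((Y.ι ≫ g).appTop) ≫ V.isoSpec.inv) :=
  pullback.lift Y.ι Y.toScheme.toSpecΓ (by
    have := Scheme.toSpecΓ_naturality (Y.ι ≫ g)
    rw [← cancel_mono V.isoSpec.hom]
    simp only [Category.assoc, Iso.inv_hom_id, Category.comp_id]
    rw [Scheme.isoSpec_hom, ← Category.assoc Y.ι g]
    exact this)

theorem isAffineOpen_of_universallyClosed [UniversallyClosed g] (Y : W.Opens)
    [Y.toScheme.IsQuasiAffine]
    (H : ∀ x : W, x ∉ Y → ∃ (U : W.Opens) (a : Γ(W, U)) (b : Γ(W, Y)), x ∈ U ∧ x ∉ W.basicOpen a ∧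
      W.presheaf.map (homOfLE (inf_le_left : U ⊓ Y ≤ U)).op a *
        W.presheaf.map (homOfLE (inf_le_right : U ⊓ Y ≤ Y)).op b = 1) :
    IsAffineOpen Y := by
  let j := Y.toScheme.toSpecΓ
  let q : Spec Γ(Y.toScheme, ⊤) ⟶ V := Spec.map ((Y.ι ≫ g).appTop) ≫ V.isoSpec.inv
  let Γm : Y.toScheme ⟶ pullback g q := graph g Y
  have h1 : Γm ≫ pullback.fst g q = Y.ι := pullback.lift_fst _ _ _
  have h2 : Γm ≫ pullback.snd g q = j := pullback.lift_snd _ _ _
  haveI : UniversallyClosed (pullback.snd g q) :=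
    MorphismProperty.pullback_snd _ _ inferInstance
  suffices hs : Function.Surjective j by
    haveI : Surjective j := ⟨hs⟩
    haveI : Epi j.base := (TopCat.epi_iff_surjective _).2 hs
    haveI : IsIso j := IsOpenImmersion.isIso j
    exact IsAffine.of_isIso j
  intro p
  have hdense : DenseRange j := j.denseRange
  have hcl : IsClosed (pullback.snd g q '' closure (Set.range Γm)) :=
    (pullback.snd g q).isClosedMap _ isClosed_closure
  have hsub : Set.range j ⊆ pullback.snd g q '' closure (Set.range Γm) := by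
    rintro _ ⟨y, rfl⟩
    exact ⟨Γm y, subset_closure ⟨y, rfl⟩, by rw [← h2]; rfl⟩
  obtain ⟨z, hz, rfl⟩ := (hcl.closure_subset_iff.2 hsub) (hdense.closure_eq.ge (Set.mem_univ p))
  by_cases hx : pullback.fst g q z ∈ Y
  · -- over `Y` the graph is closed
    let Q : (pullback g q).Opens := pullback.fst g q ⁻¹ᵁ Y
    have hle : Γm ⁻¹ᵁ Q = ⊤ := by
      rw [← Scheme.Hom.comp_preimage, h1, Y.ι_preimage_self]
    let h : Y.toScheme ⟶ Q.toScheme := IsOpenImmersion.lift Q.ι Γm (by
      rintro _ ⟨y, rfl⟩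
      rw [Scheme.Opens.range_ι]
      exact (hle.ge (Set.mem_univ y) : _))
    have hh : h ≫ Q.ι = Γm := IsOpenImmersion.lift_fac _ _ _
    have hsec : h ≫ (pullback.fst g q ∣_ Y) = 𝟙 _ := by
      rw [← cancel_mono Y.ι, Category.assoc, morphismRestrict_ι, reassoc_of% hh, h1, Category.id_comp]
    haveI : IsSeparated (pullback.fst g q) := inferInstance
    haveI : IsSeparated (pullback.fst g q ∣_ Y) := inferInstance
    haveI : IsClosedImmersion (h ≫ (pullback.fst g q ∣_ Y)) := by rw [hsec]; infer_instance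
    haveI : IsClosedImmersion h := IsClosedImmersion.of_comp h (pullback.fst g q ∣_ Y)
    have hzQ : (⟨z, hx⟩ : Q) ∈ closure (Set.range h) := by
      rw [Topology.IsEmbedding.subtypeVal.closure_eq_preimage_closure_image]
      show z ∈ closure (Subtype.val '' Set.range h)
      rw [← Set.range_comp]
      convert hz using 3
      exact congrArg (fun k : Y.toScheme ⟶ pullback g q => (⇑k : Y → ↥(pullback g q))) hh
    rw [h.isClosedEmbedding.isClosed_range.closure_eq] at hzQ
    obtain ⟨y, hy⟩ := hzQ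
    refine ⟨y, ?_⟩
    rw [← h2, Scheme.Hom.comp_apply, ← hh, Scheme.Hom.comp_apply, hy]
    rfl
  · exfalso
    obtain ⟨U, a, b, hxU, hxa, hab⟩ := H _ hx
    let P := pullback g q
    let O : P.Opens := pullback.fst g q ⁻¹ᵁ U
    let B : Γ(Spec Γ(Y.toScheme, ⊤), ⊤) := (Scheme.ΓSpecIso _).inv (Y.topIso.inv b)
    let φ : Γ(P, O) := (pullback.fst g q).app U a * (pullback.snd g q).appLE ⊤ O le_top B - 1
    have hzO : z ∈ O := hxU
    have hzφ : z ∈ P.basicOpen φ := by
      rw [Scheme.mem_basicOpen _ _ _ hzO, map_sub, map_mul, map_one]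
      have hna : ¬ IsUnit (P.presheaf.germ O z hzO ((pullback.fst g q).app U a)) := by
        rw [← Scheme.mem_basicOpen, ← Scheme.preimage_basicOpen]
        exact hxa
      have := IsLocalRing.isUnit_one_sub_self_of_mem_nonunits _
        (show _ ∈ nonunits _ from fun hu => hna (isUnit_of_mul_isUnit_left (y := P.presheaf.germ O z hzO ((pullback.snd g q).appLE ⊤ O le_top B)) hu))
      rw [← neg_sub]
      exact this.neg
    obtain ⟨_, hy, y, rfl⟩ := mem_closure_iff.1 hz _ (P.basicOpen φ).2 hzφ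
    have hy' : y ∈ Γm ⁻¹ᵁ P.basicOpen φ := hy
    rw [Scheme.preimage_basicOpen] at hy'
    have hzero : Γm.app O φ = 0 := by
      have e1 : Γm.app O ((pullback.fst g q).app U a) =
          Y.ι.appLE U (Γm ⁻¹ᵁ O) (by rw [← Scheme.Hom.comp_preimage, h1]) a := by
        rw [Scheme.Hom.app_eq_appLE, Scheme.Hom.app_eq_appLE, ← CommRingCat.comp_apply,
          Scheme.Hom.appLE_comp_appLE]
        rw [app_congr_of_eq h1]
      have e2 : Γm.app O ((pullback.snd g q).appLE ⊤ O le_top B) =
          j.appLE ⊤ (Γm ⁻¹ᵁ O) le_top B := by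
        rw [Scheme.Hom.app_eq_appLE, ← CommRingCat.comp_apply, Scheme.Hom.appLE_comp_appLE]
        rw [app_congr_of_eq h2]
      rw [map_sub, map_mul, map_one, e1, e2, sub_eq_zero]
      have hE : Γm ⁻¹ᵁ O = Y.ι ⁻¹ᵁ U := by rw [← Scheme.Hom.comp_preimage, h1]
      have hle : Y.ι ''ᵁ (Γm ⁻¹ᵁ O) ≤ U ⊓ Y := by
        rw [hE, Scheme.Hom.image_preimage_eq_opensRange_inf, Scheme.Opens.opensRange_ι, inf_comm]
      have eB : j.appLE ⊤ (Γm ⁻¹ᵁ O) le_top B =
          W.presheaf.map (homOfLE (hle.trans inf_le_right)).op b := by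
        rw [Scheme.Hom.appLE, CommRingCat.comp_apply, show Scheme.Hom.app j ⊤ = j.appTop from rfl,
          Scheme.toSpecΓ_appTop]
        simp only [B]
        refine (congrArg _ (Iso.inv_hom_id_apply (Scheme.ΓSpecIso Γ(Y.toScheme, ⊤)) _)).trans ?_
        rw [Scheme.Opens.topIso_inv]
        show (W.presheaf.map _ ≫ W.presheaf.map _) b = _
        rw [← Functor.map_comp]
        rfl
      have eA : Y.ι.appLE U (Γm ⁻¹ᵁ O) (by rw [hE]) a =
          W.presheaf.map (homOfLE (hle.trans inf_le_left)).op a := by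
        rw [Scheme.Opens.ι_appLE]
        rfl
      rw [eA, eB]
      have := congrArg (W.presheaf.map (homOfLE hle).op) hab
      rw [map_mul, map_one, ← CommRingCat.comp_apply, ← CommRingCat.comp_apply,
        ← Functor.map_comp, ← Functor.map_comp, ← op_comp, ← op_comp, homOfLE_comp, homOfLE_comp] at this
      exact this
    rw [hzero, Scheme.basicOpen_zero] at hy'
    exact hy'.elim

end Groth.Agent.UCAmple
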